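import Groth.Agent.LocAcycPointLib.Main
import Groth.Agent.EtStrictAcycLib.Main
import Groth.Agent.EtPurLib.Strict
import Groth.Agent.S0073
import Groth.Agent.S3471
import Groth.Prelude.Def_EtDepth

/-!
# Local acyclicity in the explicit form
-/

set_option autoImplicit false
set_option linter.all false
set_option backward.isDefEq.respectTransparency false
set_option backward.isDefEq.respectTransparency.types false
set_option synthInstance.maxHeartbeats 400000
set_option maxHeartbeats 1600000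

universe u

open CategoryTheory CategoryTheory.Limits CategoryTheory.Abelian AlgebraicGeometry Opposite
open Groth.Agent Groth.Agent.EtShLib
open scoped TensorProduct

noncomputable section

namespace EtDepthLocLib

attribute [local instance] EtSliceLib.pullExact

/-- Constant sections on a strictly local scheme. -/
theorem exists_bijective_H0 (R : Type u) [CommRing R] [HenselianLocalRing R]
    [IsSepClosed (IsLocalRing.ResidueField R)] (M : Type) [AddCommGroup M] :
    ∃ e : EtCoh.H (Spec (CommRingCat.of R)) (EtCoh.const (Spec (CommRingCat.of R)) M) 0 → M,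
      Function.Bijective e := by
  obtain ⟨i⟩ := EtPurLib.nonempty_glob_const R (AddCommGrpCat.of (ULift.{u + 1} M))
  let E := (Equiv.ofBijective _ (⟨EtContLib.sec_injective, EtContLib.sec_surjective⟩ :
    Function.Bijective (EtContLib.sec (G := EtCoh.const (Spec (CommRingCat.of R)) M)))).trans
    (i.addCommGroupIsoToAddEquiv.toEquiv.trans Equiv.ulift)
  exact ⟨E, E.bijective⟩

/-- An isomorphism of schemes on constant cohomology. -/
theorem bijective_toConst_of_isIso {A B : Scheme.{u}} (i : A ⟶ B) [IsIso i] (M : Type) [AddCommGroup M] (q : ℕ) :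
    ∃ f : EtCoh.H B (EtCoh.const B M) q → EtCoh.H A (EtCoh.const A M) q, Function.Bijective f :=
  ⟨_, EtStrictAcycLib.bijective_toConst i M q (Groth.Agent.S0642.result i _ q)⟩

/-- The explicit form of local acyclicity gives local acyclicity. -/
theorem isLocAcyclicN_of_LE {X S : Scheme.{u}} (f : X ⟶ S) {ℓ m : ℕ} (hℓ : ℓ.Prime)
    (hf : EtDepth.IsLocAcyclicLE f ℓ m) : EtAcyc.IsLocAcyclicN f {ℓ} m := by
  refine (Groth.Agent.S3471.result f {ℓ} ⟨ℓ, rfl, hℓ⟩ m).2 ?_
  intro x RY RX _ _ _ _ _ _ _ _ _ hX _ _ hc y Ω _ _ _ _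
  haveI : HenselianLocalRing RX := Hensel.IsStrictHenselization.henselian (R := X.presheaf.stalk x)
  haveI : IsSepClosed (IsLocalRing.ResidueField RX) := hX.isSepClosure.sep_closed
  let τ := EtAcyc.geomPt (Spec (CommRingCat.of RY)) y Ω
  letI : Algebra RY Ω := (Spec.preimage τ).hom.toAlgebra
  have hτ : Spec.map (CommRingCat.ofHom (algebraMap RY Ω)) = τ := Spec.map_preimage τ
  show EtAcyc.IsAcyclicSchemeN {ℓ} m (pullback (Spec.map (CommRingCat.ofHom (algebraMap RY RX))) τ)
  rw [← hτ]
  refine LocAcycPointLib.isAcyclicSchemeN_of_iso (pullbackSpecIso RY RX Ω).symm ?_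
  let p := Spec.map (CommRingCat.ofHom (algebraMap RX (RX ⊗[RY] Ω)))
  have hb : ∀ q, q ≤ m → ∃ g : EtCoh.H (Spec (CommRingCat.of RX)) (EtCoh.const _ (ZMod ℓ)) q →
      EtCoh.H (Spec (CommRingCat.of (RX ⊗[RY] Ω))) (EtCoh.const _ (ZMod ℓ)) q, Function.Bijective g := fun q hq =>
    ⟨_, EtStrictAcycLib.bijective_toConst p (ZMod ℓ) q (hf x RY RX hc Ω q hq)⟩
  obtain ⟨g0, hg0⟩ := hb 0 (Nat.zero_le _)
  obtain ⟨e0, he0⟩ := exists_bijective_H0 RX (ZMod ℓ)
  haveI : NeZero ℓ := ⟨hℓ.ne_zero⟩
  haveI : Fact (1 < ℓ) := ⟨hℓ.one_lt⟩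
  obtain ⟨hne, hconn⟩ := EtStrictAcycLib.connected_of_sections (ZMod ℓ)
    (fun t => e0 ((Equiv.ofBijective g0 hg0).symm t)) (he0.comp (Equiv.ofBijective g0 hg0).symm.bijective)
  refine ⟨hne, hconn, fun l _ hl q hq1 hq => ?_⟩
  obtain rfl : l = ℓ := hl
  obtain ⟨g, hg⟩ := hb q hq
  haveI := Groth.Agent.S0073.result RX (EtCoh.const (Spec (CommRingCat.of RX)) (ZMod l)) q hq1
  exact hg.2.subsingleton

end EtDepthLocLib
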