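import Groth.Agent.EtLocCohLib.Depth
import Groth.Agent.EtLocCohLib.ConstDev
import Groth.Agent.CdOneLib.ColimH
import Groth.Agent.RDerLib.LeftExact
import Mathlib.GroupTheory.Finiteness

/-!
# Depth of filtered colimits and of constant torsion sheaves
-/

set_option autoImplicit false
set_option linter.all false
set_option backward.isDefEq.respectTransparency false
set_option backward.isDefEq.respectTransparency.types false
set_option synthInstance.maxHeartbeats 400000
set_option maxHeartbeats 1600000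

universe u

open CategoryTheory CategoryTheory.Limits CategoryTheory.Abelian AlgebraicGeometry Opposite
open Groth.Agent Groth.Agent.EtShLib EtSliceLib EtLocCohLib

noncomputable section

namespace EtDepthLocLib

variable {X U : Scheme.{u}} (j : U ⟶ X) [IsOpenImmersion j] [EtCoh.BCCont j]

/-- Sections supported off the open vanish when they do on affine étale objects. -/
theorem isZero_secSupp_of_affine {G : EtCoh.Ab X}
    (h : ∀ W : X.Etale, IsAffine W.left → ∀ a : qU j W ⟶ G, a = 0) : IsZero ((EtDual.secSupp j).obj G) := by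
  refine (isZero_secSupp_iff j G).2 fun W s hs => res_ext G _ _ fun y => ?_
  obtain ⟨_, ⟨V, hV, rfl⟩, hy, -⟩ :=
    (W.left.isBasis_affineOpens).exists_subset_of_mem_open (Set.mem_univ y) isOpen_univ
  haveI : AlgebraicGeometry.Etale W.hom := W.prop
  let Vo : W.left.Opens := V
  let W' : X.Etale := MorphismProperty.Over.mk ⊤ (Vo.ι ≫ W.hom) inferInstance
  let g : W' ⟶ W := MorphismProperty.Over.homMk Vo.ι rfl
  refine ⟨W', g, ⟨⟨y, hy⟩, rfl⟩, ?_⟩
  rw [map_zero]
  have hz : G.obj.map (iU j W').op (G.obj.map g.op s) = 0 := by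
    rw [← ConcreteCategory.comp_apply, ← Functor.map_comp, ← op_comp]
    refine map_eq_zero_of_range_subset (iU j W) (iU j W' ≫ g) ?_ hs
    rintro _ ⟨z, rfl⟩
    refine (range_iU j W).ge ?_
    have h1 : (iU j W').left.base z ∈ W'.hom.base ⁻¹' Set.range j.base := (range_iU j W').le ⟨z, rfl⟩
    exact h1
  have h0 : freeMap (iU j W') ≫ desc W' (G.obj.map g.op s) = 0 := free_hom_ext _ (by
    rw [freeMap_app, desc_gen]
    exact hz)
  have h1 := cokernel.π_desc (freeMap (iU j W')) _ h0
  have ha := h W' hV (cokernel.desc _ (desc W' (G.obj.map g.op s)) h0)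
  rw [ha, comp_zero] at h1
  rw [← desc_gen W' (G.obj.map g.op s), ← h1]
  rfl

/-- Depth can be tested on affine étale objects. -/
theorem depthGE_of_ext_affine (n : ℕ) : ∀ F : EtCoh.Ab X,
    (∀ p : ℕ, p < n → ∀ W : X.Etale, IsAffine W.left → Subsingleton (Ext.{u + 1} (qU j W) F p)) →
      EtDepth.DepthGE j F n := by
  haveI := preservesFiniteLimits_secSupp j
  induction n with
  | zero => exact fun F _ p hp => absurd hp (Nat.not_lt_zero p)
  | succ n ih =>
    intro F h
    have h0 : IsZero ((EtDual.secSupp j).obj F) := isZero_secSupp_of_affine j fun W hW a => by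
      haveI := h 0 (by omega) W hW
      exact (Ext.mk₀_bijective _ _).1 (Subsingleton.elim _ _)
    obtain ⟨I, i, hi, hI, hI0⟩ := exists_presentation j h0
    haveI := hi
    haveI := hI
    let S := ShortComplex.mk i (cokernel.π i) (cokernel.condition _)
    have hS : S.ShortExact := { exact := ShortComplex.exact_of_g_is_cokernel _ (cokernelIsCokernel _) }
    have hjI : ∀ q, IsZero (((EtDual.secSupp j).rightDerived q).obj S.X₂) := by
      rintro (_ | q)
      · exact hI0.of_iso ((EtDual.secSupp j).rightDerivedZeroIsoSelf.app _)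
      · exact (EtDual.secSupp j).isZero_rightDerived_obj_injective_succ q _
    have hQI : ∀ (q : ℕ) (W : X.Etale), Subsingleton (Ext.{u + 1} (qU j W) S.X₂ q) := by
      rintro (_ | q) W
      · refine subsingleton_of_forall_eq 0 fun y => ?_
        obtain ⟨a, rfl⟩ := (Ext.mk₀_bijective _ _).2 y
        rw [subsingleton_hom_qU j hI0 W a, Ext.mk₀_zero]
      · exact subsingleton_of_forall_eq 0 fun y => Ext.eq_zero_of_injective _
    intro p hp
    rcases p with _ | p
    · exact h0.of_iso ((EtDual.secSupp j).rightDerivedZeroIsoSelf.app F)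
    · have hC : EtDepth.DepthGE j S.X₃ n := ih S.X₃ fun q hq W hW => by
        refine subsingleton_of_forall_eq 0 fun c => ?_
        obtain ⟨w, hw⟩ := Ext.covariant_sequence_exact₃ _ hS c (n₁ := q + 1) rfl
          (@Subsingleton.elim _ (h (q + 1) (by omega) W hW) _ _)
        haveI := hQI q W
        rw [← hw, Subsingleton.elim w 0, Ext.zero_comp]
      exact Groth.Agent.RDerLib.isZero_X₁_succ hS p (hjI (p + 1)) ⟨fun a b _ => IsZero.eq_of_src (hC p (by omega)) a b⟩

variable {J : Type (u + 1)} [SmallCategory J] [IsFiltered J] {D : J ⥤ EtCoh.Ab X} {c : Cocone D}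

/-- The cohomology of a quasi-compact étale object is jointly covered by the stages. -/
theorem ext_free_colim (hc : IsColimit c) (W : X.Etale) [CompactSpace W.left] [QuasiSeparatedSpace W.left] (q : ℕ) :
    (∀ x : Ext.{u + 1} (free W) c.pt q, ∃ (i : J) (y : Ext.{u + 1} (free W) (D.obj i) q),
      y.comp (Ext.mk₀ (c.ι.app i)) (add_zero q) = x) ∧
    ∀ (i : J) (y : Ext.{u + 1} (free W) (D.obj i) q), y.comp (Ext.mk₀ (c.ι.app i)) (add_zero q) = 0 →
      ∃ (k : J) (a : i ⟶ k), y.comp (Ext.mk₀ (D.map a)) (add_zero q) = 0 := by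
  haveI := Groth.Agent.CdOneLib.preservesFilteredColimits_H (X := W.left) q J
  haveI : PreservesColimitsOfShape J (EtCoh.pull W.hom) :=
    haveI : PreservesColimitsOfSize.{u + 1, u + 1} (EtCoh.pull W.hom) :=
      (EtCoh.pullPushAdj W.hom).leftAdjoint_preservesColimits
    inferInstance
  let G := EtCoh.pull W.hom ⋙ EtCoh.HF W.left q ⋙ forget AddCommGrpCat.{u + 1}
  have hG : IsColimit (G.mapCocone c) := isColimitOfPreserves G hc
  constructor
  · intro x
    obtain ⟨i, z, hz⟩ := Types.jointly_surjective_of_isColimit hG (psi W c.pt q x)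
    obtain ⟨y, rfl⟩ := (psi_bijective W q (D.obj i)).2 z
    refine ⟨i, y, (psi_bijective W q c.pt).1 ?_⟩
    rw [psi_postcomp]
    exact hz
  · intro i y hy
    let Φ := EtCoh.pull W.hom ⋙ EtCoh.HF W.left q
    have key : ∀ {F F' : EtCoh.Ab X} (f : F ⟶ F') (t : Ext.{u + 1} (free W) F q),
        psi W F' q (t.comp (Ext.mk₀ f) (add_zero q)) = Φ.map f (psi W F q t) := fun f t => psi_postcomp W f t
    have h0 : (G.mapCocone c).ι.app i (psi W (D.obj i) q y) = (G.mapCocone c).ι.app i (psi W (D.obj i) q 0) := by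
      show Φ.map (c.ι.app i) (psi W (D.obj i) q y) = Φ.map (c.ι.app i) (psi W (D.obj i) q 0)
      rw [← key, ← key, hy, Ext.zero_comp]
    obtain ⟨k, a, b, hab⟩ := (Types.FilteredColimit.isColimit_eq_iff _ hG).1 h0
    refine ⟨k, a, (psi_bijective W q (D.obj k)).1 ?_⟩
    rw [key, map_zero]
    refine Eq.trans hab ?_
    show Φ.map (D.map b) (psi W (D.obj i) q 0) = 0
    rw [← key, Ext.zero_comp, map_zero]

/-- Depth passes to filtered colimits. -/
theorem depthGE_colim [QuasiCompact j] (hc : IsColimit c) (n : ℕ) (h : ∀ i, EtDepth.DepthGE j (D.obj i) n) :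
    EtDepth.DepthGE j c.pt n := by
  refine depthGE_of_ext_affine j n _ fun p hp W hW => ?_
  haveI := hW
  haveI : CompactSpace ((𝟭 Scheme.{u}).obj W.left) := inferInstanceAs (CompactSpace W.left)
  haveI : QuasiSeparatedSpace ((𝟭 Scheme.{u}).obj W.left) := inferInstanceAs (QuasiSeparatedSpace W.left)
  let W' := (EtShriek.compEtale j).obj ((EtCoh.bc j).obj W)
  haveI : CompactSpace W'.left := QuasiCompact.compactSpace_of_compactSpace (pullback.fst W.hom j)
  haveI : QuasiSeparatedSpace W'.left := quasiSeparatedSpace_of_quasiSeparated (pullback.fst W.hom j)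
  have hD := fun i => (ext_iff_restr j (D.obj i) n W).1 fun p hp => (depthGE_iff_ext j n (D.obj i)).1 (h i) p hp W
  have hinj : ∀ q, (∀ i, Function.Injective fun y : Ext.{u + 1} (free W) (D.obj i) q =>
      (Ext.mk₀ (freeMap (iU j W))).comp y (zero_add q)) →
      Function.Injective fun y : Ext.{u + 1} (free W) c.pt q => (Ext.mk₀ (freeMap (iU j W))).comp y (zero_add q) := by
    intro q hi
    refine (injective_iff_map_eq_zero ((Ext.mk₀ (freeMap (iU j W))).precomp c.pt (zero_add q))).2 fun x hx => ?_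
    obtain ⟨i, y, rfl⟩ := (ext_free_colim hc W q).1 x
    obtain ⟨k, a, hk⟩ := (ext_free_colim hc W' q).2 i ((Ext.mk₀ (freeMap (iU j W))).comp y (zero_add q))
      ((Ext.comp_assoc_of_third_deg_zero _ _ _ _).trans hx)
    rw [Ext.comp_assoc_of_third_deg_zero] at hk
    have h0 : y.comp (Ext.mk₀ (D.map a)) (add_zero q) = 0 := hi k (hk.trans (by simp))
    rw [← c.w a, ← Ext.mk₀_comp_mk₀, ← Ext.comp_assoc_of_third_deg_zero, h0, Ext.zero_comp]
  refine (ext_iff_restr j c.pt n W).2 ⟨fun q hq => ⟨hinj q fun i => ((hD i).1 q hq).1, fun x => ?_⟩,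
    fun q hq => hinj q fun i => (hD i).2 q hq⟩ p hp
  obtain ⟨i, y, rfl⟩ := (ext_free_colim hc W' q).1 x
  obtain ⟨z, rfl⟩ := ((hD i).1 q hq).2 y
  exact ⟨z.comp (Ext.mk₀ (c.ι.app i)) (add_zero q), (Ext.comp_assoc_of_third_deg_zero _ _ _ _).symm⟩

omit [IsFiltered J] in
/-- The finitely generated subgroups. -/
def fgDiag (A : AddCommGrpCat.{u + 1}) : Finset A ⥤ AddCommGrpCat.{u + 1} where
  obj s := AddCommGrpCat.of (AddSubgroup.closure (s : Set A))
  map {s t} h := AddCommGrpCat.ofHom (AddSubgroup.inclusion (AddSubgroup.closure_mono (leOfHom h)))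
  map_id s := by ext x; rfl
  map_comp f g := by ext x; rfl

/-- A group is the union of its finitely generated subgroups. -/
def fgCocone (A : AddCommGrpCat.{u + 1}) : Cocone (fgDiag A) where
  pt := A
  ι :=
    { app := fun s => AddCommGrpCat.ofHom (AddSubgroup.closure (s : Set A)).subtype
      naturality := fun s t f => by ext x; rfl }

/-- The union is a colimit. -/
def fgColimit (A : AddCommGrpCat.{u + 1}) : IsColimit (fgCocone A) :=
  haveI : ReflectsColimitsOfShape (Finset A) (forget AddCommGrpCat.{u + 1}) :=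
    reflectsColimitsOfShape_of_reflectsIsomorphisms
  isColimitOfReflects (forget AddCommGrpCat.{u + 1}) (Types.FilteredColimit.isColimitOf' _ _
    (fun x => ⟨{x}, ⟨x, AddSubgroup.subset_closure (Finset.mem_coe.2 (Finset.mem_singleton_self x))⟩, rfl⟩)
    (fun s x y e => ⟨s, 𝟙 _, congrArg _ (Subtype.ext e)⟩))

/-- Constant sheaves of torsion groups have the depth of `ℤ/ℓ`. -/
theorem depthGE_const_torsion [QuasiCompact j] {ℓ : ℕ} (hℓ : ℓ.Prime) {n : ℕ}
    (hX : EtDepth.DepthGE j (EtCoh.const X (ZMod ℓ)) n) (A : AddCommGrpCat.{u + 1})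
    (hA : ∀ x : A, ∃ a : ℕ, (ℓ ^ a) • x = 0) : EtDepth.DepthGE j ((cK X).obj A) n := by
  classical
  haveI : PreservesColimitsOfShape (Finset A) (cK X) :=
    haveI : PreservesColimitsOfSize.{u + 1, u + 1} (cK X) := (EtCore.constAdj X).leftAdjoint_preservesColimits
    inferInstance
  refine depthGE_colim j (isColimitOfPreserves (cK X) (fgColimit A)) n fun s => ?_
  choose a ha using hA
  have hk : ∀ x : AddSubgroup.closure (s : Set A), (ℓ ^ (s.sup a)) • x = 0 := fun x => by
    refine Subtype.ext ?_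
    show (ℓ ^ (s.sup a)) • (x : A) = 0
    refine (AddSubgroup.closure_le (K := (nsmulAddMonoidHom (α := A) (ℓ ^ (s.sup a))).ker)).2 (fun z hz => ?_) x.2
    show (ℓ ^ (s.sup a)) • z = 0
    rw [← Nat.sub_add_cancel (Finset.le_sup (f := a) (Finset.mem_coe.1 hz)), pow_add, mul_smul, ha z, smul_zero]
  haveI : AddGroup.FG (AddSubgroup.closure (s : Set A)) := (AddGroup.fg_iff_addSubgroup_fg _).2 ⟨s, rfl⟩
  haveI : Finite (AddSubgroup.closure (s : Set A)) := AddCommGroup.finite_of_fg_isAddTorsion _ fun x =>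
    (isOfFinAddOrder_iff_nsmul_eq_zero).2 ⟨_, pow_pos hℓ.pos _, hk x⟩
  haveI : Finite ((fgDiag A).obj s) := ‹Finite (AddSubgroup.closure (s : Set A))›
  exact depthGE_const_lgroup j hℓ hX _ ((fgDiag A).obj s) inferInstance _ le_rfl hk

end EtDepthLocLib
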