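import Groth.Agent.EtAcycFibLib.Trans
import Groth.Agent.QfHensFiniteLib.Basic
import Groth.Agent.HenselBranchLib.IntegralHens
import Groth.Agent.AzInvLib.Local
import Groth.Agent.EtBcQLib.Strict
import Groth.Agent.WCSiteLib.Spec
import Groth.Agent.WEtSHLib.Local
import Groth.Agent.S0754

/-!
# The closed fibre of a strict localisation
-/

set_option autoImplicit false
set_option linter.all false
set_option backward.isDefEq.respectTransparency false
set_option backward.isDefEq.respectTransparency.types false
set_option synthInstance.maxHeartbeats 400000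
set_option maxHeartbeats 1600000

universe u

open CategoryTheory CategoryTheory.Limits AlgebraicGeometry Opposite IsLocalRing
open Groth.Agent
open scoped TensorProduct

noncomputable section

namespace EtDepthLocLib

/-- A weakly étale morphism from a strictly henselian local scheme gives a strict henselisation of the local ring. -/
theorem isStrictHenselization_closedPointTo {X : Scheme.{u}} {R : Type u} [CommRing R] [HenselianLocalRing R]
    [IsSepClosed (IsLocalRing.ResidueField R)] (g : Spec (CommRingCat.of R) ⟶ X) [WeaklyEtale g] :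
    letI := (Scheme.stalkClosedPointTo g).hom.toAlgebra
    ∃ _ : IsLocalHom (algebraMap (X.presheaf.stalk (g.base (IsLocalRing.closedPoint R))) R),
      Hensel.IsStrictHenselization (X.presheaf.stalk (g.base (IsLocalRing.closedPoint R))) R := by
  let x := g.base (IsLocalRing.closedPoint R)
  letI : Algebra (X.presheaf.stalk x) R := (Scheme.stalkClosedPointTo g).hom.toAlgebra
  haveI : IsLocalHom (algebraMap (X.presheaf.stalk x) R) :=
    inferInstanceAs (IsLocalHom (Scheme.stalkClosedPointTo g).hom)
  haveI := EtAcycFibLib.weaklyEtale_fromSpecStalk x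
  haveI : WeaklyEtale (Spec.map (CommRingCat.ofHom (algebraMap (X.presheaf.stalk x) R)) ≫ X.fromSpecStalk x) := by
    show WeaklyEtale (Hens2.specOf X x R)
    rw [show Hens2.specOf X x R = g from Scheme.Spec_stalkClosedPointTo_fromSpecStalk g]
    infer_instance
  haveI : Algebra.WeaklyEtale (X.presheaf.stalk x) R :=
    EtAcycFibLib.weaklyEtale_ring (WeaklyEtale.of_comp _ (X.fromSpecStalk x))
  haveI := QfHensFiniteLib.isStrictHenselization_self R
  exact ⟨inferInstance, Groth.Agent.WEtSHLib.isStrictHenselization_of_weaklyEtale (X.presheaf.stalk x) R R⟩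

/-- The residue field of a strict henselisation is weakly étale over the residue field. -/
theorem weaklyEtale_residueField (A R : Type u) [CommRing A] [IsLocalRing A] [CommRing R] [IsLocalRing R]
    [Algebra A R] [IsLocalHom (algebraMap A R)] [Hensel.IsStrictHenselization A R] :
    Algebra.WeaklyEtale (ResidueField A) (ResidueField R) := by
  haveI : Algebra.WeaklyEtale A R := Groth.Agent.S0736.result A R (Groth.Agent.S12237.result A R)
  let φ : ResidueField A ⊗[A] R →ₐ[ResidueField A] ResidueField R :=
    Algebra.TensorProduct.lift (Algebra.ofId _ _) (IsScalarTower.toAlgHom A R (ResidueField R))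
      (fun _ _ => Commute.all _ _)
  letI : Algebra (ResidueField A ⊗[A] R) (ResidueField R) := φ.toRingHom.toAlgebra
  haveI : IsScalarTower (ResidueField A) (ResidueField A ⊗[A] R) (ResidueField R) :=
    IsScalarTower.of_algebraMap_eq' φ.comp_algebraMap.symm
  haveI : Algebra.IsEpi (ResidueField A ⊗[A] R) (ResidueField R) :=
    Algebra.isEpi_of_surjective_algebraMap _ _ fun y => by
      obtain ⟨y, rfl⟩ := residue_surjective y
      refine ⟨1 ⊗ₜ y, ?_⟩
      show φ (1 ⊗ₜ y) = _
      rw [Algebra.TensorProduct.lift_tmul, map_one, one_mul]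
      rfl
  exact WEtFieldLib.weaklyEtale_of_epi (B := ResidueField A ⊗[A] R) _

/-- The closed fibre of a strict localisation is a strict localisation of the fibre. -/
theorem exists_fibre_strict {X S : Scheme.{u}} (f : X ⟶ S) (x : X) (RS : Type u) [CommRing RS] [IsLocalRing RS]
    [Algebra (S.presheaf.stalk (f.base x)) RS] [IsLocalHom (algebraMap (S.presheaf.stalk (f.base x)) RS)]
    [Hensel.IsStrictHenselization (S.presheaf.stalk (f.base x)) RS]
    (RX : Type u) [CommRing RX] [IsLocalRing RX] [Algebra (X.presheaf.stalk x) RX]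
    [IsLocalHom (algebraMap (X.presheaf.stalk x) RX)] [Hensel.IsStrictHenselization (X.presheaf.stalk x) RX]
    (ψ : RS →+* RX) [IsLocalHom ψ]
    (hψ : ψ.comp (algebraMap (S.presheaf.stalk (f.base x)) RS) =
      (algebraMap (X.presheaf.stalk x) RX).comp (f.stalkMap x).hom) :
    ∃ (R' : Type u) (_ : CommRing R') (_ : IsLocalRing R') (q : RX →+* R') (t : ResidueField RS →+* R')
      (l : Spec (CommRingCat.of R') ⟶ f.fiber (f.base x)) (_ : WeaklyEtale l),
      Function.Surjective q ∧ HenselianLocalRing R' ∧ IsSepClosed (ResidueField R') ∧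
      IsPullback (Spec.map (CommRingCat.ofHom t)) (Spec.map (CommRingCat.ofHom q))
        (Spec.map (CommRingCat.ofHom (residue RS))) (Spec.map (CommRingCat.ofHom ψ)) ∧
      (f.fiberι (f.base x)).base (l.base (closedPoint R')) = x := by
  haveI : HenselianLocalRing RX := Hensel.IsStrictHenselization.henselian (R := X.presheaf.stalk x)
  haveI : IsSepClosed (ResidueField RX) :=
    (inferInstance : Hensel.IsStrictHenselization (X.presheaf.stalk x) RX).isSepClosure.sep_closed
  letI : Algebra RS RX := ψ.toAlgebra
  let s := f.base x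
  let k := ResidueField RS
  let R' := RX ⊗[RS] k
  let q : RX →+* R' := Algebra.TensorProduct.includeLeftRingHom
  let t : k →+* R' := (Algebra.TensorProduct.includeRight (R := RS) (A := RX) (B := k)).toRingHom
  have hq : Function.Surjective q := by
    intro z
    induction z using TensorProduct.induction_on with
    | zero => exact ⟨0, map_zero _⟩
    | add a b ha hb =>
      obtain ⟨a, rfl⟩ := ha
      obtain ⟨b, rfl⟩ := hb
      exact ⟨a + b, map_add _ _ _⟩
    | tmul a c =>
      obtain ⟨c, rfl⟩ := residue_surjective c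
      refine ⟨a * algebraMap RS RX c, ?_⟩
      show (a * algebraMap RS RX c) ⊗ₜ[RS] (1 : k) = a ⊗ₜ[RS] residue RS c
      rw [mul_comm, ← Algebra.smul_def, TensorProduct.smul_tmul, Algebra.smul_def, mul_one]
      rfl
  let π : R' →+* ResidueField RX :=
    (Algebra.TensorProduct.lift (IsScalarTower.toAlgHom RS RX (ResidueField RX))
      ({ ResidueField.map ψ with commutes' := fun c => rfl } : k →ₐ[RS] ResidueField RX)
      fun _ _ => Commute.all _ _).toRingHom
  haveI : Nontrivial R' := π.domain_nontrivial
  haveI : IsLocalRing R' := IsLocalRing.of_surjective' q hq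
  haveI : IsLocalHom q := IsLocalHom.of_surjective _ hq
  letI : Algebra RX R' := q.toAlgebra
  haveI : Algebra.IsIntegral RX R' := Algebra.isIntegral_of_surjective hq
  haveI hH : HenselianLocalRing R' := HenselBranchLib.henselianLocalRing_of_isIntegral' RX R'
  haveI hsc : IsSepClosed (ResidueField R') :=
    AzInvLib.isSepClosed_of_ringEquiv (RingEquiv.ofBijective (ResidueField.map q) ⟨RingHom.injective _, fun y => by
      obtain ⟨y, rfl⟩ := residue_surjective y
      obtain ⟨a, rfl⟩ := hq y
      exact ⟨residue RX a, rfl⟩⟩)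
  let cl := Spec.map (CommRingCat.ofHom (residue RS))
  let f' := Spec.map (CommRingCat.ofHom ψ)
  have sq : IsPullback (Spec.map (CommRingCat.ofHom t)) (Spec.map (CommRingCat.ofHom q)) cl f' :=
    (isPullback_SpecMap_of_isPushout _ _ _ _ (CommRingCat.isPushout_tensorProduct RS RX k)).flip
  let gS := Hens2.specOf S s RS
  let gX := Hens2.specOf X x RX
  have hw : f' ≫ gS = gX ≫ f := EtBcQLib.specOf_comp f x RS RX ψ hψ
  let τ : S.residueField s →+* k := ResidueField.map (algebraMap (S.presheaf.stalk s) RS)
  let σ : Spec (CommRingCat.of k) ⟶ Spec (S.residueField s) := Spec.map (CommRingCat.ofHom τ)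
  have hσ : σ ≫ S.fromSpecResidueField s = cl ≫ gS := by
    show Spec.map _ ≫ Spec.map _ ≫ _ = Spec.map _ ≫ Spec.map _ ≫ _
    rw [← Spec.map_comp_assoc, ← Spec.map_comp_assoc]
    rfl
  haveI hwX : WeaklyEtale gX := Groth.Agent.S0754.result X x RX
  haveI hwS : WeaklyEtale gS := Groth.Agent.S0754.result S s RS
  haveI hwσ : WeaklyEtale σ := by
    haveI := weaklyEtale_residueField (S.presheaf.stalk s) RS
    exact WCSiteLib.weaklyEtale_specMap (ResidueField (S.presheaf.stalk s)) k
  haveI : WeaklyEtale (pullback.diagonal gS) := by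
    haveI : WeaklyEtale (pullback.diagonal gS ≫ pullback.fst gS gS) := by
      rw [pullback.diagonal_fst]
      infer_instance
    haveI : WeaklyEtale (pullback.fst gS gS) := MorphismProperty.pullback_fst _ _ hwS
    exact WeaklyEtale.of_comp (pullback.diagonal gS) (pullback.fst gS gS)
  let d := pullback.map f' cl (f' ≫ gS) (cl ≫ gS) (𝟙 _) (𝟙 _) gS (Category.id_comp _).symm (Category.id_comp _).symm
  haveI : WeaklyEtale d :=
    MorphismProperty.of_isPullback (pullback_map_diagonal_isPullback f' cl gS) ‹WeaklyEtale (pullback.diagonal gS)›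
  let m := pullback.map (f' ≫ gS) (cl ≫ gS) f (S.fromSpecResidueField s) gX σ (𝟙 _)
    ((Category.comp_id _).trans hw) ((Category.comp_id _).trans hσ.symm)
  haveI : WeaklyEtale m := MorphismProperty.pullbackMap (P := @WeaklyEtale) hwX hwσ hw hσ.symm
  let l : Spec (CommRingCat.of R') ⟶ f.fiber s := sq.flip.isoPullback.hom ≫ d ≫ m
  have hl : l ≫ f.fiberι s = Spec.map (CommRingCat.ofHom q) ≫ gX := by
    show (sq.flip.isoPullback.hom ≫ d ≫ m) ≫ pullback.fst f (S.fromSpecResidueField s) = _
    simp only [Category.assoc, m, d, pullback.lift_fst, pullback.lift_fst_assoc, IsPullback.isoPullback_hom_fst_assoc,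
      Category.comp_id]
  refine ⟨R', inferInstance, inferInstance, q, t, l, inferInstance, hq, hH, hsc, sq, ?_⟩
  rw [← Scheme.Hom.comp_apply, hl, Scheme.Hom.comp_apply]
  show (X.fromSpecStalk x).base ((Spec.map _).base ((Spec.map (CommRingCat.ofHom q)).base (closedPoint R'))) = x
  exact (congrArg (fun z => (X.fromSpecStalk x).base ((Spec.map (CommRingCat.ofHom (algebraMap (X.presheaf.stalk x) RX))).base z))
    (IsLocalRing.comap_closedPoint q)).trans ((congrArg (X.fromSpecStalk x).base
      (IsLocalRing.comap_closedPoint (algebraMap (X.presheaf.stalk x) RX))).trans Scheme.fromSpecStalk_closedPoint)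

end EtDepthLocLib
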