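import Groth.Agent.EtDepthLocLib.Depth
import Groth.Agent.EtDepthLocLib.Acyclic
import Groth.Agent.EtDepthLocLib.Colim
import Groth.Agent.EtDepthLocLib.Fibre
import Groth.Agent.EtAcycFibLib.Bc
import Groth.Agent.EtAcycFibLib.Trans
import Groth.Agent.EtPurLib.SupSheaf
import Groth.Agent.EtStrictAcycLib.Point
import Groth.Agent.S0540
import Groth.Agent.S0631
import Groth.Agent.S0655
import Groth.Agent.S8560

/-!
# Depth of an inverse image at a point
-/

set_option autoImplicit false
set_option linter.all false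
set_option backward.isDefEq.respectTransparency false
set_option backward.isDefEq.respectTransparency.types false
set_option synthInstance.maxHeartbeats 400000
set_option maxHeartbeats 2000000

universe u

open CategoryTheory CategoryTheory.Limits AlgebraicGeometry Opposite TopologicalSpace
open Groth.Agent Groth.Agent.EtShLib EtRpushStalkLib EtLocCohLib

noncomputable section

namespace EtDepthLocLib

attribute [local instance] EtSliceLib.pullExact

/-- The two torsion conditions agree for one prime. -/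
theorem isLTorsion_of_depth {X : Scheme.{u}} {ℓ : ℕ} (hℓ : ℓ.Prime) {F : EtCoh.Ab X} (hF : EtDepth.IsLTorsion ℓ F) :
    EtAcyc.IsLTorsion {ℓ} F := fun U s x => by
  obtain ⟨V, g, hv, k, hk⟩ := hF U s x
  exact ⟨V, g, ℓ ^ k, hv, ⟨pow_pos hℓ.pos _, fun r hr hd =>
    Set.mem_singleton_iff.2 ((Nat.prime_dvd_prime_iff_eq hr hℓ).1 (hr.dvd_of_dvd_pow hd))⟩, hk⟩

/-- A subsheaf of a torsion sheaf is torsion. -/
theorem isLTorsion_of_mono {X : Scheme.{u}} {L : Set ℕ} {G F : EtCoh.Ab X} (i : G ⟶ F) [Mono i]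
    (hF : EtAcyc.IsLTorsion L F) : EtAcyc.IsLTorsion L G := by
  rw [isLTorsion_iff_torsionBy] at hF ⊢
  intro Ω _ _ ξ p
  obtain ⟨m, hm, he⟩ := hF Ω ξ ((stk (A := AddCommGrpCat.{u + 1}) ξ).map i p)
  refine ⟨m, hm, (AddCommGrpCat.mono_iff_injective ((stk (A := AddCommGrpCat.{u + 1}) ξ).map i)).1 inferInstance ?_⟩
  rw [map_nsmul, he, map_zero]

/-- Local cohomology of torsion sheaves is torsion. -/
theorem isLTorsion_locCoh {X U : Scheme.{u}} (j : U ⟶ X) [IsOpenImmersion j] [QuasiCompact j] {L : Set ℕ}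
    {F : EtCoh.Ab X} (hF : EtAcyc.IsLTorsion L F) (b : ℕ) : EtAcyc.IsLTorsion L ((EtDual.locCoh j b).obj F) := by
  haveI := preservesFiniteLimits_secSupp j
  haveI : PreservesFiniteLimits (EtCoh.push j) :=
    haveI : PreservesLimitsOfSize.{0, 0} (EtCoh.push j) := (EtCoh.pullPushAdj j).rightAdjoint_preservesLimits
    PreservesLimitsOfSize.preservesFiniteLimits _
  have hR : ∀ q, EtAcyc.IsLTorsion L ((EtCoh.Rpush j q).obj ((EtCoh.pull j).obj F)) := fun q =>
    Groth.Agent.S8560.result j L _ (EtAcycLib.isLTorsion_pull_any j hF) q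
  rcases b with _ | _ | q
  · exact isLTorsion_of_mono (((EtDual.secSupp j).rightDerivedZeroIsoSelf.app F).hom ≫
      kernel.ι (EtDual.unitApp j F)) hF
  · obtain ⟨⟨e⟩, -⟩ := Groth.Agent.S6658.result j F
    exact EtAcycLib.isLTorsion_of_epi (hR 0)
      (((EtCoh.push j).rightDerivedZeroIsoSelf.app _).hom ≫ cokernel.π (EtDual.unitApp j F) ≫ e.hom)
  · obtain ⟨e⟩ := (Groth.Agent.S6658.result j F).2 (q + 1) (by omega)
    exact EtAcycLib.isLTorsion_of_epi (hR (q + 1)) e.hom

/-- Torsion sections at a separably closed point. -/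
theorem exists_pow_nsmul_eq_zero {k : Type u} [Field k] [IsSepClosed k] {ℓ : ℕ}
    {N : EtCoh.Ab (Spec (CommRingCat.of k))} (hN : EtAcyc.IsLTorsion {ℓ} N)
    (s : ToType (N.obj.obj (op (EtCoh.top (Spec (CommRingCat.of k)))))) : ∃ a : ℕ, (ℓ ^ a) • s = 0 := by
  haveI := EtStrictAcycLib.isSepClosed_residue k
  rw [isLTorsion_iff_torsionBy] at hN
  obtain ⟨m, hm, he⟩ := hN _ (closedPt k) (germ (A := AddCommGrpCat.{u + 1}) (closedPt k) N _ (topPt k) s)
  refine ⟨m.primeFactorsList.length, ?_⟩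
  rw [← Nat.eq_prime_pow_of_unique_prime_dvd hm.1.ne' fun {d} hd hdm => hm.2 d hd hdm]
  exact (bijective_germ_top k N).1 (by rw [map_nsmul, he, map_zero])

/-- A closed fibre of local cohomology sheaves. -/
theorem depthGE_pull_supported {RS RX : Type u} [CommRing RS] [HenselianLocalRing RS]
    [IsSepClosed (IsLocalRing.ResidueField RS)] [CommRing RX] [IsLocalRing RX] [IsNoetherianRing RX]
    (ψ : RS →+* RX) {R' : Type u} [CommRing R'] [IsLocalRing R'] (q : RX →+* R') (hq : Function.Surjective q)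
    (t : IsLocalRing.ResidueField RS →+* R')
    (sq : IsPullback (Spec.map (CommRingCat.ofHom t)) (Spec.map (CommRingCat.ofHom q))
      (Spec.map (CommRingCat.ofHom (IsLocalRing.residue RS))) (Spec.map (CommRingCat.ofHom ψ)))
    {ℓ : ℕ} (hℓ : ℓ.Prime) (n : ℕ)
    (hd : EtDepth.DepthGE (FEt.puncturedSpec R').ι (EtCoh.const (Spec (CommRingCat.of R')) (ZMod ℓ)) n)
    (H : EtCoh.Ab (Spec (CommRingCat.of RS))) (hH : EtAcyc.IsLTorsion {ℓ} H)
    (hsupp : ∀ (Ω : Type u) [Field Ω] [IsSepClosed Ω] (ξ : Spec (CommRingCat.of Ω) ⟶ Spec (CommRingCat.of RS)),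
      ξ.base default ≠ IsLocalRing.closedPoint RS → IsZero ((stk (A := AddCommGrpCat.{u + 1}) ξ).obj H)) :
    EtDepth.DepthGE (FEt.puncturedSpec RX).ι ((EtCoh.pull (Spec.map (CommRingCat.ofHom ψ))).obj H) n := by
  let cl := Spec.map (CommRingCat.ofHom (IsLocalRing.residue RS))
  let f' := Spec.map (CommRingCat.ofHom ψ)
  let i' := Spec.map (CommRingCat.ofHom q)
  let e := Spec.map (CommRingCat.ofHom t)
  haveI : IsClosedImmersion cl := IsClosedImmersion.spec_of_surjective _ IsLocalRing.residue_surjective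
  haveI : IsClosedImmersion i' := IsClosedImmersion.spec_of_surjective _ hq
  have hcl : ∀ z, cl.base z = IsLocalRing.closedPoint RS := fun z => by
    rw [Subsingleton.elim z (IsLocalRing.closedPoint (IsLocalRing.ResidueField RS))]
    exact IsLocalRing.comap_closedPoint (IsLocalRing.residue RS)
  have hs : EtPBC.supp H ⊆ Set.range cl.base := by
    rintro x ⟨Ω, _, _, ξ, hξ, hne⟩
    by_contra hx
    have hξx : ξ.base default = x := by
      have h : ξ.base default ∈ ({x} : Set _) := hξ ▸ ⟨default, rfl⟩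
      exact h
    refine hne (hsupp Ω ξ fun h => hx ⟨default, ?_⟩)
    rw [hcl, ← h, hξx]
  obtain ⟨-, -, hess, hcounit⟩ := Groth.Agent.S0631.result cl
  obtain ⟨N, ⟨eN⟩⟩ := (hess H).2 hs
  haveI := hcounit N
  have hN : EtAcyc.IsLTorsion {ℓ} N := EtAcycLib.isLTorsion_of_epi (EtAcycLib.isLTorsion_pull_any cl hH)
    (((EtCoh.pull cl).mapIso eN).inv ≫ (EtCoh.pullPushAdj cl).counit.app N)
  obtain ⟨ec⟩ := EtLocCohLib.nonempty_iso_cK_of_isCst (EtStrictAcycLib.isCst_id (IsLocalRing.ResidueField RS) N)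
  let A := N.obj.obj (op (EtCoh.top (Spec (CommRingCat.of (IsLocalRing.ResidueField RS)))))
  let e1 : (cK (Spec (CommRingCat.of R'))).obj A ≅ (EtCoh.pull e).obj N :=
    ((EtCore.pullConstIso e).app A).symm ≪≫ (EtCoh.pull e).mapIso ec
  haveI : IsNoetherianRing R' := isNoetherianRing_of_surjective RX R' q hq
  haveI : QuasiCompact (FEt.puncturedSpec R').ι := inferInstance
  have hdN : EtDepth.DepthGE (FEt.puncturedSpec R').ι ((EtCoh.pull e).obj N) n :=
    depthGE_of_iso _ e1 (depthGE_const_torsion _ hℓ hd A (exists_pow_nsmul_eq_zero hN))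
  haveI := Groth.Agent.S0655.result cl f' i' e sq N
  let e2 : (EtCoh.pull f').obj H ≅ (EtCoh.push i').obj ((EtCoh.pull e).obj N) :=
    (EtCoh.pull f').mapIso eN.symm ≪≫ asIso (EtCoh.baseChange0 cl f' i' e sq.w N)
  refine depthGE_of_iso _ e2.symm fun p hp => ?_
  haveI : IsLocalHom q := IsLocalHom.of_surjective _ hq
  have hr : Set.range (FEt.puncturedSpec R').ι.base = i'.base ⁻¹' Set.range (FEt.puncturedSpec RX).ι.base := by
    rw [Scheme.Opens.range_ι, Scheme.Opens.range_ι]
    ext z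
    have hc : i'.base (IsLocalRing.closedPoint R') = IsLocalRing.closedPoint RX := IsLocalRing.comap_closedPoint q
    exact ⟨fun hz h => hz (i'.isClosedEmbedding.injective (h.trans hc.symm)), fun hz h => hz ((congrArg i'.base h).trans hc)⟩
  obtain ⟨em⟩ := EtPurLib.nonempty_locCoh_push (FEt.puncturedSpec RX).ι i' (FEt.puncturedSpec R').ι hr
    ((EtCoh.pull e).obj N) p
  haveI : (EtCoh.push i').Additive := { }
  exact (Functor.map_isZero (EtCoh.push i') (hdN p hp)).of_iso em

/-- The depth of an inverse image at a point. -/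
theorem depthAtGE_pull {X S : Scheme.{u}} (f : X ⟶ S) (x : X) (hx : IsNoetherianRing (X.presheaf.stalk x)) {ℓ : ℕ}
    (hℓ : ℓ.Prime) (m p q : ℕ) (F : EtCoh.Ab S) (hF : EtDepth.IsLTorsion ℓ F) (hf : EtDepth.IsLocAcyclicLE f ℓ m)
    (hp : EtDepth.DepthAtGE S F (f.base x) p)
    (hq : ∀ x' : ↥(f.fiber (f.base x)), (f.fiberι (f.base x)).base x' = x →
      EtDepth.DepthAtGE (f.fiber (f.base x)) (EtCoh.const (f.fiber (f.base x)) (ZMod ℓ)) x' q) :
    EtDepth.DepthAtGE X ((EtCoh.pull f).obj F) x (min (p + q) (m + 2)) := by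
  intro RX _ _ _ _ hX
  obtain ⟨RS, _, _, _, _, hS⟩ := Groth.Agent.S0537.result (S.presheaf.stalk (f.base x))
  haveI := hS
  haveI : HenselianLocalRing RS := hS.henselian
  haveI : IsSepClosed (IsLocalRing.ResidueField RS) := hS.isSepClosure.sep_closed
  haveI : IsNoetherianRing RX := (Groth.Agent.S0540.result (X.presheaf.stalk x) RX).1 hx
  obtain ⟨ψ, hl, hψ⟩ := EtBcQLib.exists_shHom f x RS RX
  haveI := hl
  let gS := Hens2.specOf S (f.base x) RS
  let gX := Hens2.specOf X x RX
  let f' := Spec.map (CommRingCat.ofHom ψ)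
  have hw : f' ≫ gS = gX ≫ f := EtBcQLib.specOf_comp f x RS RX ψ hψ
  let G := (EtCoh.pull gS).obj F
  have hG : EtAcyc.IsLTorsion {ℓ} G := EtAcycLib.isLTorsion_pull_any gS (isLTorsion_of_depth hℓ hF)
  -- the acyclicity of the map of strict localisations
  have hL : ∃ l ∈ ({ℓ} : Set ℕ), l.Prime := ⟨ℓ, rfl, hℓ⟩
  have hf' : EtAcyc.IsLocAcyclicN f' {ℓ} m := by
    letI := ψ.toAlgebra
    haveI : IsLocalHom (algebraMap RS RX) := hl
    exact EtAcycFibLib.onStrictLocalizations_specMap f (fun _ _ h => EtAcyc.IsAcyclicN h {ℓ} m)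
      (isLocAcyclicN_of_LE f hℓ hf) x RS RX hψ
  have hsurj : Function.Surjective f'.base := fun y => by
    letI := ψ.toAlgebra
    haveI : IsLocalHom (algebraMap RS RX) := hl
    let Ω := SeparableClosure ((Spec (CommRingCat.of RS)).residueField y)
    have h := ((Groth.Agent.S3471.result f {ℓ} hL m).1 (isLocAcyclicN_of_LE f hℓ hf) x RS RX hψ y Ω).1
    obtain ⟨z⟩ := h
    refine ⟨(pullback.fst f' (EtAcyc.geomPt _ y Ω)).base z, ?_⟩
    rw [← Scheme.Hom.comp_apply, pullback.condition, Scheme.Hom.comp_apply, Scheme.Hom.comp_apply]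
    exact Scheme.fromSpecResidueField_apply _ _
  let k := (FEt.puncturedSpec RS).ι
  haveI : QuasiCompact k := by
    have hc : IsCompact (FEt.puncturedSpec RS : Set (Spec (CommRingCat.of RS))) := by
      rw [← Set.image_preimage_eq (FEt.puncturedSpec RS : Set (Spec (CommRingCat.of RS))) hsurj]
      exact (TopologicalSpace.NoetherianSpace.isCompact _).image f'.continuous
    haveI : CompactSpace (FEt.puncturedSpec RS).toScheme := isCompact_iff_compactSpace.1 hc
    exact QuasiCompact.of_comp k (Spec (CommRingCat.of RS)).toSpecΓ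
  let jD := pullback.snd k f'
  have hrD : Set.range jD.base = f'.base ⁻¹' Set.range k.base := IsOpenImmersion.range_pullbackSnd k f'
  have hcD : IsLocalRing.closedPoint RX ∉ Set.range jD.base := fun h => by
    rw [hrD, Set.mem_preimage, Scheme.Opens.range_ι] at h
    exact h (IsLocalRing.comap_closedPoint ψ)
  have hiso : ∀ b, b ≤ m + 1 → Nonempty ((EtCoh.pull f').obj ((EtDual.locCoh k b).obj G) ≅
      (EtDual.locCoh jD b).obj ((EtCoh.pull f').obj G)) := fun b hb => by
    refine nonempty_locCoh_of_bc f' k jD pullback.condition G b fun r hr => ?_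
    haveI := (EtAcycFibLib.bcQ_of_isLocAcyclicN f' k jD (pullback.fst k f') (IsPullback.of_hasPullback k f') hL hf'
      (EtAcycLib.isLTorsion_pull_any k hG)).1 r (by omega)
    exact ⟨asIso (EtBC.bcQ k f' jD (pullback.fst k f') (IsPullback.of_hasPullback k f').w r ((EtCoh.pull k).obj G))⟩
  have hk : EtDepth.DepthGE k G p := hp RS
  -- the closed fibre
  obtain ⟨R', _, _, π, t, l, hwl, hπ, hR1, hR2, sq, hlx⟩ := exists_fibre_strict f x RS RX ψ hψ
  haveI := hwl
  haveI := hR1
  haveI := hR2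
  let x' := l.base (IsLocalRing.closedPoint R')
  letI := (Scheme.stalkClosedPointTo l).hom.toAlgebra
  obtain ⟨hlh, hR'⟩ := isStrictHenselization_closedPointTo l
  haveI := hlh
  haveI := hR'
  have hd : EtDepth.DepthGE (FEt.puncturedSpec R').ι (EtCoh.const (Spec (CommRingCat.of R')) (ZMod ℓ)) q := by
    have h := hq x' hlx R'
    exact depthGE_of_iso _ ((EtCore.pullCongr (show Hens2.specOf (f.fiber (f.base x)) x' R' = l from
      Scheme.Spec_stalkClosedPointTo_fromSpecStalk l)).app _ ≪≫ EtCore.pullConst l (ZMod ℓ)) h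
  let e0 : (EtCoh.pull gX).obj ((EtCoh.pull f).obj F) ≅ (EtCoh.pull f').obj G :=
    ((EtCore.pullComp gX f).app F).symm ≪≫ (EtCore.pullCongr hw.symm).app F ≪≫ (EtCore.pullComp f' gS).app F
  refine depthGE_of_iso _ e0.symm fun i hi => ?_
  refine EtSemiLib.isZero_locCoh_stages _ jD (range_subset_punctured jD hcD) _ i fun a b hab => ?_
  haveI : ((EtDual.secSupp (FEt.puncturedSpec RX).ι).rightDerived a).Additive := inferInstance
  obtain ⟨eb⟩ := hiso b (by omega)
  refine IsZero.of_iso ?_ ((EtDual.locCoh (FEt.puncturedSpec RX).ι a).mapIso eb.symm)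
  by_cases hb : b < p
  · exact Functor.map_isZero ((EtDual.secSupp (FEt.puncturedSpec RX).ι).rightDerived a)
      (Functor.map_isZero (EtCoh.pull f') (hk b hb))
  refine depthGE_pull_supported ψ π hπ t sq hℓ q hd _ (isLTorsion_locCoh k hG b) (fun Ω _ _ ξ hξ => ?_) a (by omega)
  exact isZero_stalk_locCoh k G b Ω ξ ((Scheme.Opens.range_ι (FEt.puncturedSpec RS)).ge hξ)

end EtDepthLocLib
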