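import Groth.Agent.EtLocCohLib.Local
import Groth.Agent.EtShLib.StrictLocal
import Groth.Agent.EtStrictAcycLib.Main
import Groth.Agent.EtStrictAcycLib.Point
import Groth.Prelude.Def_EtDepth

/-!
# A point where a nonzero sheaf has sections with support at the point
-/

set_option autoImplicit false
set_option linter.all false
set_option backward.isDefEq.respectTransparency false
set_option backward.isDefEq.respectTransparency.types false
set_option synthInstance.maxHeartbeats 400000
set_option maxHeartbeats 1600000

universe u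

open CategoryTheory CategoryTheory.Limits AlgebraicGeometry Opposite TopologicalSpace IsLocalRing
open Groth.Agent Groth.Agent.EtShLib EtSliceLib EtLocCohLib

noncomputable section

namespace EtDepthLocLib

/-- A section of a nonzero sheaf. -/
theorem exists_section {X : Scheme.{u}} (H : EtCoh.Ab X) (h : ¬ IsZero H) :
    ∃ (W : X.Etale) (s : ToType (H.obj.obj (op W))), s ≠ 0 := by
  by_contra hn
  push_neg at hn
  apply h
  rw [IsZero.iff_id_eq_zero]
  ext W s
  exact (hn W.unop s).trans (hn W.unop _).symm

/-- A closed point of the support. -/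
theorem exists_maximal {W : Type*} [TopologicalSpace W] [QuasiSober W] {Z : Set W} (hZ : IsClosed Z)
    (hne : Z.Nonempty) : ∃ η ∈ Z, ∀ z ∈ Z, z ⤳ η → η ⤳ z := by
  haveI : QuasiSober Z := hZ.isClosedEmbedding_subtypeVal.quasiSober
  obtain ⟨w, hw⟩ := hne
  let C := irreducibleComponent (⟨w, hw⟩ : Z)
  obtain ⟨η, hη⟩ := QuasiSober.sober (S := C) isIrreducible_irreducibleComponent isClosed_irreducibleComponent
  refine ⟨η.1, η.2, fun z hz hzη => ?_⟩
  have h1 : (⟨z, hz⟩ : Z) ⤳ η := (subtype_specializes_iff _ _).2 hzη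
  have hC : C ⊆ closure {(⟨z, hz⟩ : Z)} := by
    rw [← hη.def]
    exact isClosed_closure.closure_subset_iff.2 (Set.singleton_subset_iff.2 (specializes_iff_mem_closure.1 h1))
  exact (subtype_specializes_iff _ _).1
    (hη.specializes ((irreducibleComponent_mem_irreducibleComponents _).2 isIrreducible_singleton.closure hC
      (subset_closure rfl)))

/-- A section which vanishes away from the closed point. -/
theorem not_isZero_secSupp {R : Type u} [CommRing R] [IsLocalRing R] (G : EtCoh.Ab (Spec (CommRingCat.of R)))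
    (t : ToType (G.obj.obj (op (EtCoh.top (Spec (CommRingCat.of R)))))) (ht : t ≠ 0)
    (hv : ∀ z : Spec (CommRingCat.of R), z ≠ IsLocalRing.closedPoint R →
      ∃ (V : (Spec (CommRingCat.of R)).Etale) (g : V ⟶ EtCoh.top (Spec (CommRingCat.of R))),
        (∃ v : V.left, g.left.base v = z) ∧ G.obj.map g.op t = 0)
    {U : Scheme.{u}} (j : U ⟶ Spec (CommRingCat.of R)) [IsOpenImmersion j]
    (hc : IsLocalRing.closedPoint R ∉ Set.range j.base) : ¬ IsZero ((EtDual.secSupp j).obj G) := by
  intro h
  let T := EtCoh.top (Spec (CommRingCat.of R))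
  refine ht ((isZero_secSupp_iff j G).1 h T t ?_)
  refine res_ext G _ _ fun y => ?_
  have hz : (iU j T).left.base y ∈ Set.range j.base := (range_iU j T).le ⟨y, rfl⟩
  obtain ⟨V, g, ⟨v, hgv⟩, hvt⟩ := hv ((iU j T).left.base y) fun e => hc (e ▸ hz)
  let a := (EtShriek.compEtale j).map ((EtCoh.bc j).map g)
  have ea : a ≫ iU j T = iU j V ≫ g := MorphismProperty.Over.Hom.ext (EtCoh.isPullback_bc_map j g).w
  refine ⟨_, a, ?_, ?_⟩
  · obtain ⟨q, hq⟩ : v ∈ Set.range (iU j V).left.base := by
      refine (range_iU j V).ge (Set.mem_preimage.2 ?_)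
      have hw : V.hom.base v = (iU j T).left.base y := by
        rw [← hgv, ← MorphismProperty.Over.w g]
        rfl
      exact Eq.mpr (congrArg (· ∈ Set.range j.base) hw) hz
    refine ⟨q, (iU j T).left.isOpenEmbedding.injective ?_⟩
    have e := congrArg (fun m => (m : _ ⟶ T).left.base q) ea
    exact e.trans ((congrArg g.left.base hq).trans hgv)
  · rw [← ConcreteCategory.comp_apply, ← Functor.map_comp, ← op_comp, ea, op_comp, Functor.map_comp,
      ConcreteCategory.comp_apply, hvt, map_zero]
    exact (map_zero (G.obj.map a.op).hom).symm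

/-- A nonzero sheaf supported off an open has, at some point, sections supported at the point. -/
theorem exists_point {X U : Scheme.{u}} (j : U ⟶ X) (H : EtCoh.Ab X)
    (hz : ∀ (Ω : Type u) [Field Ω] [IsSepClosed Ω] (ξ : Spec (CommRingCat.of Ω) ⟶ X),
      ξ.base default ∈ Set.range j.base → IsZero ((stk (A := AddCommGrpCat.{u + 1}) ξ).obj H))
    (h : ¬ IsZero H) :
    ∃ y : X, y ∉ Set.range j.base ∧ ∀ (R : Type u) [CommRing R] [IsLocalRing R] [Algebra (X.presheaf.stalk y) R]
      [IsLocalHom (algebraMap (X.presheaf.stalk y) R)] [Hensel.IsStrictHenselization (X.presheaf.stalk y) R],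
      ¬ IsZero ((EtDual.secSupp (FEt.puncturedSpec R).ι).obj ((EtCoh.pull (Hens2.specOf X y R)).obj H)) := by
  obtain ⟨W, s, hs⟩ := exists_section H h
  let Z : Set W.left := {w | ∀ (V : X.Etale) (g : V ⟶ W), w ∈ Set.range g.left.base → H.obj.map g.op s ≠ 0}
  have hZ : IsClosed Z := by
    rw [← isOpen_compl_iff, isOpen_iff_forall_mem_open]
    intro w hw
    simp only [Z, Set.mem_compl_iff, Set.mem_setOf_eq, not_forall, not_not] at hw
    obtain ⟨V, g, hwg, hg⟩ := hw
    haveI := etale_left g
    exact ⟨Set.range g.left.base, fun w' hw' hn => hn V g hw' hg, g.left.isOpenMap.isOpen_range, hwg⟩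
  have hne : Z.Nonempty := by
    by_contra hn
    refine hs (res_ext H _ _ fun w => ?_)
    have hw : w ∉ Z := fun hw => hn ⟨w, hw⟩
    simp only [Z, Set.mem_setOf_eq, not_forall, not_not] at hw
    obtain ⟨V, g, hwg, hg⟩ := hw
    exact ⟨V, g, hwg, hg.trans (map_zero (H.obj.map g.op).hom).symm⟩
  obtain ⟨η, hη, hmax⟩ := exists_maximal hZ hne
  let y : X := W.hom.base η
  refine ⟨y, fun hy => ?_, ?_⟩
  · obtain ⟨Ω, _, _, ξ, u, hu⟩ := exists_geometric η
    have hξ : ξ.base default = y :=
      (congrArg (fun m : Spec (CommRingCat.of Ω) ⟶ X => m.base default) (Fib.w u)).symm.trans (congrArg W.hom.base hu)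
    haveI : Subsingleton ↑((stk (A := AddCommGrpCat.{u + 1}) ξ).obj H) :=
      AddCommGrpCat.subsingleton_of_isZero (hz Ω ξ (hξ ▸ hy))
    obtain ⟨V, g, v, hv, he⟩ := (germ_eq_iff ξ W u s 0).1 (Subsingleton.elim _ _)
    refine hη V g ⟨v.pt, ?_⟩ (he.trans (map_zero (H.obj.map g.op).hom))
    rw [← hu, ← hv]
    rfl
  intro R _ _ _ _ _
  haveI : HenselianLocalRing R := Hensel.IsStrictHenselization.henselian (R := X.presheaf.stalk (W.hom.base η))
  haveI : IsSepClosed (ResidueField R) :=
    (inferInstance : Hensel.IsStrictHenselization (X.presheaf.stalk y) R).isSepClosure.sep_closed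
  let gS := Hens2.specOf X y R
  have hcl : (closedPt R).base default = IsLocalRing.closedPoint R :=
    (congrArg _ (Subsingleton.elim _ _)).trans (IsLocalRing.comap_closedPoint (IsLocalRing.residue R))
  have hpt : (closedPt R ≫ gS).base default = y := by
    show gS.base ((closedPt R).base default) = _
    rw [hcl]
    exact EtStrictAcycLib.specOf_closedPoint X y R
  obtain ⟨u, hu⟩ := exists_fib (closedPt R ≫ gS) W η hpt.symm
  obtain ⟨σ, hσ⟩ := exists_section_fib R _ (u.lift gS (closedPt R))
  let G := (EtCoh.pull gS).obj H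
  let t : ToType (G.obj.obj (op (EtCoh.top (Spec (CommRingCat.of R))))) :=
    G.obj.map σ.op (((EtCoh.pullPushAdj gS).unit.app H).hom.app (op W) s)
  refine not_isZero_secSupp G t (fun h0 => ?_) (fun z hzne => ?_) _ ?_
  · have e1 : germ (A := AddCommGrpCat.{u + 1}) (closedPt R) G _ (topPt R) t = germ (closedPt R) G _
        (u.lift gS (closedPt R)) (((EtCoh.pullPushAdj gS).unit.app H).hom.app (op W) s) := by
      rw [germ_res_apply, hσ]
    have e2 : (stalkPull gS (closedPt R) AddCommGrpCat.{u + 1}).hom.app H (germ _ H W u s) = 0 := by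
      have e3 := congrArg (fun m => m s) (germ_stalkPull gS (closedPt R) AddCommGrpCat.{u + 1} H W u)
      refine e3.trans (e1.symm.trans ?_)
      rw [h0, map_zero]
    have e4 : germ (closedPt R ≫ gS) H W u s = germ (closedPt R ≫ gS) H W u 0 :=
      (ConcreteCategory.bijective_of_isIso ((stalkPull gS (closedPt R) AddCommGrpCat.{u + 1}).hom.app H)).1
        (by rw [e2, map_zero, map_zero])
    obtain ⟨V, g, v, hv, he⟩ := (germ_eq_iff _ W u s 0).1 e4
    refine hη V g ⟨v.pt, ?_⟩ (he.trans (map_zero (H.obj.map g.op).hom))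
    rw [← hu, ← hv]
    rfl
  · let w := (pullback.fst W.hom gS).base (σ.left.base z)
    have hσc : σ.left.base (IsLocalRing.closedPoint R) = (u.lift gS (closedPt R)).pt := by
      rw [← hσ, ← hcl]
      rfl
    have hηeq : (pullback.fst W.hom gS).base (σ.left.base (IsLocalRing.closedPoint R)) = η := by
      rw [hσc, ← hu]
      exact congrArg (fun m : Spec (CommRingCat.of (ResidueField R)) ⟶ W.left => m.base default)
        (pullback.lift_fst u.hom (closedPt R) u.w)
    have hsp : w ⤳ η := by
      rw [← hηeq]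
      exact ((IsLocalRing.specializes_closedPoint z).map σ.left.continuous).map (pullback.fst W.hom gS).continuous
    have hw : W.hom.base w = gS.base z := by
      have h1 := congrArg (fun m => m.base (σ.left.base z)) (pullback.condition (f := W.hom) (g := gS))
      have h2 := congrArg (fun m => m.base z) (MorphismProperty.Over.w σ)
      refine h1.trans ?_
      exact congrArg gS.base h2
    have hwZ : w ∉ Z := fun hwZ => by
      refine hzne (EtStrictAcycLib.eq_closedPoint_of_specOf y R z ?_)
      exact hw.symm.trans (congrArg W.hom.base (hsp.antisymm (hmax w hwZ hsp)).eq)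
    obtain ⟨V, g, ⟨v, hgv⟩, hg⟩ : ∃ (V : X.Etale) (g : V ⟶ W), w ∈ Set.range g.left.base ∧ H.obj.map g.op s = 0 := by
      by_contra hn
      exact hwZ fun V g hr he => hn ⟨V, g, hr, he⟩
    let p := ((EtCoh.bc gS).map g)
    obtain ⟨q, hq, -⟩ := Scheme.Pullback.exists_preimage_pullback (f := pullback.fst W.hom gS) (g := g.left)
      (σ.left.base z) v hgv.symm
    let e := (EtCoh.isPullback_bc_map gS g).isoPullback
    have hp : p.left.base (e.inv.base q) = σ.left.base z := by
      rw [← hq]
      exact congrArg (fun m => m.base q) (EtCoh.isPullback_bc_map gS g).isoPullback_inv_fst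
    obtain ⟨r, hr, -⟩ := Scheme.Pullback.exists_preimage_pullback (f := σ.left) (g := p.left) z (e.inv.base q) hp.symm
    haveI : AlgebraicGeometry.Etale p.left := etale_left p
    haveI : AlgebraicGeometry.Etale (pullback.fst σ.left p.left) := MorphismProperty.pullback_fst _ _ inferInstance
    let V' : (Spec (CommRingCat.of R)).Etale :=
      MorphismProperty.Over.mk ⊤ (pullback.fst σ.left p.left) inferInstance
    let a : V' ⟶ EtCoh.top (Spec (CommRingCat.of R)) :=
      MorphismProperty.Over.homMk (pullback.fst σ.left p.left) (Category.comp_id _)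
    let b : V' ⟶ (EtCoh.bc gS).obj V := MorphismProperty.Over.homMk (pullback.snd σ.left p.left) (by
      rw [← MorphismProperty.Over.w p, ← pullback.condition_assoc, MorphismProperty.Over.w σ]
      exact Category.comp_id _)
    have hab : a ≫ σ = b ≫ p := MorphismProperty.Over.Hom.ext pullback.condition
    refine ⟨V', a, ⟨r, hr⟩, ?_⟩
    show G.obj.map a.op (G.obj.map σ.op _) = 0
    rw [← ConcreteCategory.comp_apply, ← Functor.map_comp, ← op_comp, hab, op_comp, Functor.map_comp,
      ConcreteCategory.comp_apply]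
    have en : G.obj.map p.op (((EtCoh.pullPushAdj gS).unit.app H).hom.app (op W) s) =
        ((EtCoh.pullPushAdj gS).unit.app H).hom.app (op V) (H.obj.map g.op s) :=
      (NatTrans.naturality_apply ((EtCoh.pullPushAdj gS).unit.app H).hom g.op s).symm
    rw [en, hg, map_zero, map_zero]
  · exact fun h => by
      obtain ⟨q, hq⟩ := h
      exact (q.2 : q.1 ≠ IsLocalRing.closedPoint R) hq

end EtDepthLocLib
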