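import Groth.Agent.EtDepthLocLib.Strict
import Groth.Agent.EtDepthLocLib.Point
import Groth.Agent.EtSemiLib.Inequality
import Groth.Agent.EtSemiLib.Stage
import Groth.Agent.EtLocCohLib.Depth
import Groth.Agent.RDerLib.LeftExact

/-!
# Depth along a closed subset and depth at its points
-/

set_option autoImplicit false
set_option linter.all false
set_option backward.isDefEq.respectTransparency false
set_option backward.isDefEq.respectTransparency.types false
set_option synthInstance.maxHeartbeats 400000
set_option maxHeartbeats 1600000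

universe u

open CategoryTheory CategoryTheory.Limits AlgebraicGeometry Opposite TopologicalSpace
open Groth.Agent Groth.Agent.EtShLib EtLocCohLib

noncomputable section

namespace EtDepthLocLib

/-- The lowest local cohomology sheaf, in stages. -/
theorem isZero_secSupp_lowest {X UY UD : Scheme.{u}} (jY : UY ⟶ X) [IsOpenImmersion jY] [EtCoh.BCCont jY]
    (jD : UD ⟶ X) [IsOpenImmersion jD] [EtCoh.BCCont jD] (hr : Set.range jD.base ⊆ Set.range jY.base) :
    ∀ (n : ℕ) (F : EtCoh.Ab X), (∀ q < n, IsZero ((EtDual.locCoh jD q).obj F)) →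
      IsZero ((EtDual.locCoh jY n).obj F) → IsZero ((EtDual.secSupp jY).obj ((EtDual.locCoh jD n).obj F)) := by
  haveI := preservesFiniteLimits_secSupp jY
  haveI := preservesFiniteLimits_secSupp jD
  intro n
  induction n with
  | zero =>
    intro F _ h
    exact IsZero.of_iso (h.of_iso ((EtDual.secSupp jY).rightDerivedZeroIsoSelf.app F).symm)
      ((EtDual.secSupp jY).mapIso ((EtDual.secSupp jD).rightDerivedZeroIsoSelf.app F) ≪≫
        (EtPurLib.secCompIso jY jD hr).app F)
  | succ n ih =>
    intro F hq h
    have h0 : IsZero ((EtDual.secSupp jD).obj F) :=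
      (hq 0 (by omega)).of_iso ((EtDual.secSupp jD).rightDerivedZeroIsoSelf.app F).symm
    obtain ⟨I, i, hi, hI, hI0⟩ := exists_presentation jD h0
    haveI := hi
    haveI := hI
    let S := ShortComplex.mk i (cokernel.π i) (cokernel.condition _)
    have hS : S.ShortExact := { exact := ShortComplex.exact_of_g_is_cokernel _ (cokernelIsCokernel _) }
    have hDI : ∀ q, IsZero (((EtDual.secSupp jD).rightDerived q).obj S.X₂) := by
      rintro (_ | q)
      · exact hI0.of_iso ((EtDual.secSupp jD).rightDerivedZeroIsoSelf.app _)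
      · exact (EtDual.secSupp jD).isZero_rightDerived_obj_injective_succ q _
    have hY0 : IsZero ((EtDual.secSupp jY).obj S.X₂) :=
      (Functor.map_isZero (EtDual.secSupp jY) hI0).of_iso ((EtPurLib.secCompIso jY jD hr).app _).symm
    have hYI : ∀ q, IsZero (((EtDual.secSupp jY).rightDerived q).obj S.X₂) := by
      rintro (_ | q)
      · exact hY0.of_iso ((EtDual.secSupp jY).rightDerivedZeroIsoSelf.app _)
      · exact (EtDual.secSupp jY).isZero_rightDerived_obj_injective_succ q _
    have hC : IsZero ((EtDual.secSupp jY).obj ((EtDual.locCoh jD n).obj S.X₃)) :=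
      ih S.X₃ (fun q hqn => RDerLib.isZero_X₃ hS q (hq (q + 1) (by omega)) (hDI q))
        (RDerLib.isZero_X₃ hS n h (hYI n))
    let L := RDerLib.derivedLES (EtDual.secSupp jD)
    haveI : Mono (L.δ S hS n (n + 1) rfl) := (L.exact₃ S hS n (n + 1) rfl).mono_g ((hDI n).eq_of_src _ _)
    haveI : Epi (L.δ S hS n (n + 1) rfl) := (L.exact₁ S hS n (n + 1) rfl).epi_f ((hDI (n + 1)).eq_of_tgt _ _)
    haveI : IsIso (L.δ S hS n (n + 1) rfl) := isIso_of_mono_of_epi _
    exact hC.of_iso ((EtDual.secSupp jY).mapIso (asIso (L.δ S hS n (n + 1) rfl)).symm)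

variable {X U : Scheme.{u}} (j : U ⟶ X) [IsOpenImmersion j]

/-- The stalks of local cohomology over the open vanish. -/
theorem isZero_stalk_locCoh [EtCoh.BCCont j] (F : EtCoh.Ab X) (p : ℕ) (Ω : Type u) [Field Ω] [IsSepClosed Ω]
    (ξ : Spec (CommRingCat.of Ω) ⟶ X) (h : ξ.base default ∈ Set.range j.base) :
    IsZero ((stk (A := AddCommGrpCat.{u + 1}) ξ).obj ((EtDual.locCoh j p).obj F)) := by
  obtain ⟨X', g, _, x', hx', hzero⟩ := EtSemiLib.exists_nhd_of_mem j F p h
  obtain ⟨l, hl, -⟩ := Scheme.exists_fac_of_etale_of_isSepClosed g ξ x' hx'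
  subst hl
  exact (Functor.map_isZero (stk (A := AddCommGrpCat.{u + 1}) l) hzero).of_iso
    ((stalkPull g l AddCommGrpCat.{u + 1}).app _)

/-- The punctured spectrum contains the inverse image of an open which misses the closed point. -/
theorem range_subset_punctured {R : Type u} [CommRing R] [IsLocalRing R] {U' : Scheme.{u}}
    (jD : U' ⟶ Spec (CommRingCat.of R)) (h : IsLocalRing.closedPoint R ∉ Set.range jD.base) :
    Set.range jD.base ⊆ Set.range (FEt.puncturedSpec R).ι.base := fun z hz =>
  (Scheme.Opens.range_ι (FEt.puncturedSpec R)).ge (show z ≠ IsLocalRing.closedPoint R from fun e => h (e ▸ hz))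

/-- Depth along a closed subset is depth at its points. -/
theorem depthGE_iff_forall [QuasiCompact j] [EtCoh.BCCont j] (F : EtCoh.Ab X) (n : ℕ) :
    EtDepth.DepthGE j F n ↔ ∀ y : X, y ∉ Set.range j.base → EtDepth.DepthAtGE X F y n := by
  constructor
  · intro h y hy R _ _ _ _ _ i hi
    let gS := Hens2.specOf X y R
    let jD := pullback.snd j gS
    have hr : Set.range jD.base = gS.base ⁻¹' Set.range j.base := IsOpenImmersion.range_pullbackSnd j gS
    have hc : IsLocalRing.closedPoint R ∉ Set.range jD.base := fun h => by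
      rw [hr, Set.mem_preimage, EtStrictAcycLib.specOf_closedPoint X y R] at h
      exact hy h
    refine EtSemiLib.isZero_locCoh_stages _ jD (range_subset_punctured jD hc) _ i fun a b hab => ?_
    obtain ⟨e⟩ := nonempty_locCoh_specOf j y R jD hr F b
    haveI : ((EtDual.secSupp (FEt.puncturedSpec R).ι).rightDerived a).Additive := inferInstance
    exact Functor.map_isZero ((EtDual.secSupp (FEt.puncturedSpec R).ι).rightDerived a)
      ((Functor.map_isZero (EtCoh.pull gS) (h b (by omega))).of_iso e.symm)
  · intro h p
    induction p using Nat.strong_induction_on with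
    | _ p ih =>
      intro hp
      by_contra hne
      obtain ⟨y, hy, hR⟩ := exists_point j _ (isZero_stalk_locCoh j F p) hne
      obtain ⟨R, _, _, _, _, hH⟩ := Groth.Agent.S0537.result (X.presheaf.stalk y)
      haveI := hH
      let gS := Hens2.specOf X y R
      let jD := pullback.snd j gS
      have hr : Set.range jD.base = gS.base ⁻¹' Set.range j.base := IsOpenImmersion.range_pullbackSnd j gS
      have hc : IsLocalRing.closedPoint R ∉ Set.range jD.base := fun h => by
        rw [hr, Set.mem_preimage, EtStrictAcycLib.specOf_closedPoint X y R] at h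
        exact hy h
      obtain ⟨e⟩ := nonempty_locCoh_specOf j y R jD hr F p
      haveI := preservesFiniteLimits_secSupp (FEt.puncturedSpec R).ι
      refine hR R (IsZero.of_iso ?_ ((EtDual.secSupp (FEt.puncturedSpec R).ι).mapIso e))
      refine isZero_secSupp_lowest _ jD (range_subset_punctured jD hc) p _ (fun q hq => ?_) (h y hy R p hp)
      obtain ⟨e'⟩ := nonempty_locCoh_specOf j y R jD hr F q
      exact (Functor.map_isZero (EtCoh.pull gS) (ih q hq (lt_trans hq hp))).of_iso e'.symm

end EtDepthLocLib
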