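import Groth.Agent.EtBcLimLib.Main
import Groth.Agent.EtBcQLib.Etale
import Groth.Agent.EtULABCLib.Main
import Groth.Agent.EtRpushStalkLib.System

/-!
# Base change along a strict localisation
-/

set_option autoImplicit false
set_option linter.all false
set_option backward.isDefEq.respectTransparency false
set_option backward.isDefEq.respectTransparency.types false
set_option synthInstance.maxHeartbeats 400000
set_option maxHeartbeats 1600000

universe u

open CategoryTheory CategoryTheory.Limits AlgebraicGeometry Opposite
open Groth.Agent Groth.Agent.EtShLib DescSecLib EtContLib EtBcLimLib EtRpushStalkLib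

noncomputable section

namespace EtDepthLocLib

attribute [local instance] EtSliceLib.pullExact

variable {X T Y : Scheme.{u}} {R : Type u} [CommRing R] {gS : Spec (CommRingCat.of R) ⟶ X} (C : Chart gS)
  (g : T ⟶ X) {h : Y ⟶ Spec (CommRingCat.of R)} {e : Y ⟶ T}

/-- The structure maps of the neighbourhoods. -/
def chartHom : undl C.DS ⟶ (Functor.const C.I).obj X where
  app i := (C.DS.obj i).hom
  naturality i j a := (MorphismProperty.Over.w (C.DS.map a)).trans (Category.comp_id _).symm

/-- The first projections. -/
def chartFst : C.D g ⟶ undl C.DS where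
  app i := pullback.fst (C.DS.obj i).hom g
  naturality i j a := DescSecLib.bc_map_fst g (C.DS.map a)

include C in
/-- Higher direct images commute with restriction to a strict localisation. -/
theorem isIso_bcQ_chart [QuasiCompact g] [QuasiSeparated g] (c : IsPullback e h g gS)
    [PreservesFiniteLimits (EtCoh.pull e)] (F : EtCoh.Ab T) (q : ℕ) :
    IsIso (EtBC.bcQ g gS h e c.w q F) := by
  haveI : CategoryTheory.IsConnected C.I := IsCofiltered.isConnected _
  haveI : CategoryTheory.IsConnected C.Iᵒᵖ := IsFiltered.isConnected _
  haveI : ∀ (a b : C.I) (m : a ⟶ b), IsAffineHom ((undl C.DS).map m) := fun a b m => inferInstance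
  haveI : ∀ (a b : C.I) (m : a ⟶ b), IsAffineHom ((C.D g).map m) := fun a b m => Chart.isAffineHom_map C g m
  haveI : ∀ (Z : Scheme.{u}) (a b : C.I) (m : a ⟶ b), IsAffineHom (((Functor.const C.I).obj Z).map m) :=
    fun Z a b m => inferInstanceAs (IsAffineHom (𝟙 Z))
  let gN : (Functor.const C.I).obj T ⟶ (Functor.const C.I).obj X := (Functor.const _).map g
  haveI : ∀ i, QuasiCompact (gN.app i) := fun i => inferInstanceAs (QuasiCompact g)
  haveI : ∀ i, QuasiSeparated (gN.app i) := fun i => inferInstanceAs (QuasiSeparated g)
  haveI : ∀ i, IsOpenImmersion ((constCone C.I T).π.app i) := fun i => inferInstanceAs (IsOpenImmersion (𝟙 T))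
  let K : C.Iᵒᵖ ⥤ EtCoh.Ab (constCone C.I T).pt := (Functor.const _).obj F
  let cc : Cocone K := constCocone C.Iᵒᵖ F
  let Rs := EtULABCLib.coneSys (constCone C.I T) K
  have sq : ∀ i : C.I, IsPullback ((C.t g).app i) ((chartFst C g).app i) (gN.app i) ((chartHom C).app i) :=
    fun i => (IsPullback.of_hasPullback (C.DS.obj i).hom g).flip
  have hstage : ∀ i, IsIso (EtBC.bcQ (gN.app i) ((chartHom C).app i) ((chartFst C g).app i) ((C.t g).app i)
      (sq i).w q (Rs.F i)) := by
    intro i
    haveI : AlgebraicGeometry.Etale ((chartHom C).app i) := (C.DS.obj i).prop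
    haveI : PreservesFiniteLimits (EtCoh.pull ((C.t g).app i)) := EtSliceLib.pullExact _
    exact EtBcQLib.isIso_bcQ_etale (gN.app i) ((chartHom C).app i) ((chartFst C g).app i) ((C.t g).app i) (sq i) q _
  exact isIso_bcQ_limit (chartHom C) gN (chartFst C g) (C.t g) sq C.hc (isLimitConstCone _ X)
    (isLimitConstCone _ T) (C.isLimit g c) gS g h e (fun i => (C.w i).trans (Category.comp_id gS).symm)
    (fun i => (Category.id_comp g).trans (Category.comp_id g).symm)
    (fun i => C.p_fst g c i) (fun i => (C.c_hom g c i).trans (Category.comp_id e).symm) c Rs F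
    (EtULABCLib.coneψ (cn := constCone C.I T) (K := K) cc)
    (fun {k j} a => EtULABCLib.coneψ_compat (cn := constCone C.I T) (K := K) cc a)
    (EtULABCLib.stkLim_coneSys (cn := constCone C.I T) (K := K) cc (isColimitConstCocone _ F)) q hstage

end EtDepthLocLib
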