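import Groth.Agent.EtPurLib.SupSheaf
import Groth.Agent.EtShLib.PushStalk
import Groth.Agent.S6658

/-!
# Local cohomology and inverse images
-/

set_option autoImplicit false
set_option linter.all false
set_option backward.isDefEq.respectTransparency false
set_option backward.isDefEq.respectTransparency.types false
set_option synthInstance.maxHeartbeats 400000
set_option maxHeartbeats 1600000

universe u

open CategoryTheory CategoryTheory.Limits AlgebraicGeometry Opposite
open Groth.Agent Groth.Agent.EtShLib EtSliceLib EtLocCohLib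

noncomputable section

namespace EtDepthLocLib

attribute [local instance] EtSliceLib.pullExact

variable {X X' U U' : Scheme.{u}} (g : X' ⟶ X) (j : U ⟶ X) [IsOpenImmersion j] (j' : U' ⟶ X') [IsOpenImmersion j']
  {e : U' ⟶ U} (w : e ≫ j = j' ≫ g)

include w in
/-- The transferred unit has the kernel and the cokernel of the unit. -/
theorem nonempty_kernel_cokernel (F : EtCoh.Ab X)
    (θ : (EtCoh.pull g).obj ((EtCoh.push j).obj ((EtCoh.pull j).obj F)) ≅
      (EtCoh.push j').obj ((EtCoh.pull e).obj ((EtCoh.pull j).obj F))) :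
    Nonempty ((EtCoh.pull g).obj (kernel (EtDual.unitApp j F)) ≅
      kernel (EtDual.unitApp j' ((EtCoh.pull g).obj F))) ∧
    Nonempty ((EtCoh.pull g).obj (cokernel (EtDual.unitApp j F)) ≅
      cokernel (EtDual.unitApp j' ((EtCoh.pull g).obj F))) := by
  haveI : PreservesFiniteColimits (EtCoh.pull g) :=
    haveI : PreservesColimitsOfSize.{0, 0} (EtCoh.pull g) := (EtCoh.pullPushAdj g).leftAdjoint_preservesColimits
    PreservesColimitsOfSize.preservesFiniteColimits _
  haveI : (EtCoh.pull g).Additive := (EtCoh.pullPushAdj g).left_adjoint_additive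
  let η := (EtCoh.pull g).map (EtDual.unitApp j F)
  let u := η ≫ θ.hom
  let v := ((EtCoh.pullPushAdj j').homEquiv _ _).symm u
  haveI : IsIso ((EtCoh.pull j).map (EtDual.unitApp j F)) := by
    haveI := counit_isIso_of_openImmersion (i := j) ((EtCoh.pull j).obj F)
    haveI : IsIso ((EtCoh.pull j).map (EtDual.unitApp j F) ≫
        (EtCoh.pullPushAdj j).counit.app ((EtCoh.pull j).obj F)) := by
      rw [show (EtCoh.pull j).map (EtDual.unitApp j F) ≫ _ = 𝟙 _ from
        (EtCoh.pullPushAdj j).left_triangle_components F]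
      infer_instance
    exact IsIso.of_isIso_comp_right _ ((EtCoh.pullPushAdj j).counit.app ((EtCoh.pull j).obj F))
  let φ : EtCoh.pull g ⋙ EtCoh.pull j' ≅ EtCoh.pull j ⋙ EtCoh.pull e :=
    (EtCore.pullComp j' g).symm ≪≫ EtCore.pullCongr w.symm ≪≫ EtCore.pullComp e j
  haveI : IsIso ((EtCoh.pull j').map η) := (NatIso.isIso_map_iff φ (EtDual.unitApp j F)).2
    (inferInstanceAs (IsIso ((EtCoh.pull e).map ((EtCoh.pull j).map (EtDual.unitApp j F)))))
  haveI : IsIso ((EtCoh.pull j').map u) := by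
    rw [show (EtCoh.pull j').map u = (EtCoh.pull j').map η ≫ (EtCoh.pull j').map θ.hom from Functor.map_comp _ _ _]
    infer_instance
  haveI := counit_isIso_of_openImmersion (i := j') ((EtCoh.pull e).obj ((EtCoh.pull j).obj F))
  haveI : IsIso v := by
    rw [show v = (EtCoh.pull j').map u ≫ (EtCoh.pullPushAdj j').counit.app _ from
      (EtCoh.pullPushAdj j').homEquiv_counit _ _ u]
    infer_instance
  have hu : EtDual.unitApp j' ((EtCoh.pull g).obj F) ≫ (EtCoh.push j').map v = u :=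
    ((EtCoh.pullPushAdj j').homEquiv_unit (f := v)).symm.trans (Equiv.apply_symm_apply _ _)
  let τ : (EtCoh.push j').obj ((EtCoh.pull j').obj ((EtCoh.pull g).obj F)) ≅
      (EtCoh.pull g).obj ((EtCoh.push j).obj ((EtCoh.pull j).obj F)) :=
    asIso ((EtCoh.push j').map v) ≪≫ θ.symm
  have hτ : EtDual.unitApp j' ((EtCoh.pull g).obj F) ≫ τ.hom = η := by
    rw [show τ.hom = (EtCoh.push j').map v ≫ θ.inv from rfl, ← Category.assoc, hu,
      show u = η ≫ θ.hom from rfl, Category.assoc, Iso.hom_inv_id, Category.comp_id]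
  constructor
  · exact ⟨PreservesKernel.iso (EtCoh.pull g) (EtDual.unitApp j F) ≪≫ kernelIsoOfEq hτ.symm ≪≫
      kernelCompMono _ _⟩
  · exact ⟨PreservesCokernel.iso (EtCoh.pull g) (EtDual.unitApp j F) ≪≫ cokernelIsoOfEq hτ.symm ≪≫
      cokernelCompIsIso _ _⟩

include w in
/-- Local cohomology commutes with an inverse image when higher direct images do. -/
theorem nonempty_locCoh_of_bc (F : EtCoh.Ab X) (b : ℕ)
    (H : ∀ q : ℕ, q ≤ b - 1 → Nonempty ((EtCoh.pull g).obj ((EtCoh.Rpush j q).obj ((EtCoh.pull j).obj F)) ≅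
      (EtCoh.Rpush j' q).obj ((EtCoh.pull e).obj ((EtCoh.pull j).obj F)))) :
    Nonempty ((EtCoh.pull g).obj ((EtDual.locCoh j b).obj F) ≅
      (EtDual.locCoh j' b).obj ((EtCoh.pull g).obj F)) := by
  haveI := preservesFiniteLimits_secSupp j
  haveI := preservesFiniteLimits_secSupp j'
  haveI : PreservesFiniteLimits (EtCoh.push j) :=
    haveI : PreservesLimitsOfSize.{0, 0} (EtCoh.push j) := (EtCoh.pullPushAdj j).rightAdjoint_preservesLimits
    PreservesLimitsOfSize.preservesFiniteLimits _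
  haveI : PreservesFiniteLimits (EtCoh.push j') :=
    haveI : PreservesLimitsOfSize.{0, 0} (EtCoh.push j') := (EtCoh.pullPushAdj j').rightAdjoint_preservesLimits
    PreservesLimitsOfSize.preservesFiniteLimits _
  obtain ⟨θ₀⟩ := H 0 (Nat.zero_le _)
  obtain ⟨⟨ek⟩, ⟨ec⟩⟩ := nonempty_kernel_cokernel g j j' w F
    ((EtCoh.pull g).mapIso ((EtCoh.push j).rightDerivedZeroIsoSelf.app _).symm ≪≫ θ₀ ≪≫
      (EtCoh.push j').rightDerivedZeroIsoSelf.app _)
  rcases b with _ | _ | q
  · exact ⟨(EtCoh.pull g).mapIso ((EtDual.secSupp j).rightDerivedZeroIsoSelf.app F) ≪≫ ek ≪≫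
      ((EtDual.secSupp j').rightDerivedZeroIsoSelf.app _).symm⟩
  · obtain ⟨⟨a⟩, -⟩ := Groth.Agent.S6658.result j F
    obtain ⟨⟨b⟩, -⟩ := Groth.Agent.S6658.result j' ((EtCoh.pull g).obj F)
    exact ⟨(EtCoh.pull g).mapIso a.symm ≪≫ ec ≪≫ b⟩
  obtain ⟨a⟩ := (Groth.Agent.S6658.result j F).2 (q + 1) (by omega)
  obtain ⟨b⟩ := (Groth.Agent.S6658.result j' ((EtCoh.pull g).obj F)).2 (q + 1) (by omega)
  obtain ⟨θ⟩ := H (q + 1) (by omega)
  let φ : EtCoh.pull g ⋙ EtCoh.pull j' ≅ EtCoh.pull j ⋙ EtCoh.pull e :=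
    (EtCore.pullComp j' g).symm ≪≫ EtCore.pullCongr w.symm ≪≫ EtCore.pullComp e j
  exact ⟨(EtCoh.pull g).mapIso a.symm ≪≫ θ ≪≫ (EtCoh.Rpush j' (q + 1)).mapIso (φ.app F).symm ≪≫ b⟩

end EtDepthLocLib
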