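import Groth.Agent.EtDepthLocLib.Limit
import Groth.Agent.EtDepthLocLib.Transfer
import Groth.Agent.EtRpushStalkLib.Exists
import Groth.Prelude.Def_Hens2

/-!
# Local cohomology on strict localisations
-/

set_option autoImplicit false
set_option linter.all false
set_option backward.isDefEq.respectTransparency false
set_option backward.isDefEq.respectTransparency.types false
set_option synthInstance.maxHeartbeats 400000
set_option maxHeartbeats 1600000

universe u

open CategoryTheory CategoryTheory.Limits AlgebraicGeometry Opposite TopologicalSpace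
open Groth.Agent Groth.Agent.EtShLib EtRpushStalkLib

noncomputable section

namespace EtDepthLocLib

attribute [local instance] EtSliceLib.pullExact

variable {X U : Scheme.{u}} (j : U ⟶ X) [IsOpenImmersion j] [QuasiCompact j]

/-- Local cohomology commutes with restriction to strict localisations. -/
theorem nonempty_locCoh_specOf (x : X) (R : Type u) [CommRing R] [IsLocalRing R]
    [Algebra (X.presheaf.stalk x) R] [IsLocalHom (algebraMap (X.presheaf.stalk x) R)]
    [Hensel.IsStrictHenselization (X.presheaf.stalk x) R]
    {U' : Scheme.{u}} (j' : U' ⟶ Spec (CommRingCat.of R)) [IsOpenImmersion j']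
    (hr : Set.range j'.base = (Hens2.specOf X x R).base ⁻¹' Set.range j.base) (F : EtCoh.Ab X) (b : ℕ) :
    Nonempty ((EtCoh.pull (Hens2.specOf X x R)).obj ((EtDual.locCoh j b).obj F) ≅
      (EtDual.locCoh j' b).obj ((EtCoh.pull (Hens2.specOf X x R)).obj F)) := by
  haveI : HenselianLocalRing R := Hensel.IsStrictHenselization.henselian (R := X.presheaf.stalk x)
  haveI : IsSepClosed (IsLocalRing.ResidueField R) :=
    (inferInstance : Hensel.IsStrictHenselization (X.presheaf.stalk x) R).isSepClosure.sep_closed
  obtain ⟨C⟩ := exists_chart x R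
  let gS := Hens2.specOf X x R
  let e : U' ⟶ U := IsOpenImmersion.lift j (j' ≫ gS) (by
    rw [Scheme.Hom.comp_base, TopCat.coe_comp, Set.range_comp, hr]
    exact Set.image_preimage_subset _ _)
  have hfac : e ≫ j = j' ≫ gS := IsOpenImmersion.lift_fac _ _ _
  have c : IsPullback e j' j gS := IsOpenImmersion.isPullback e j' j gS hfac.symm (Opens.ext (by
    show gS.base ⁻¹' Set.range j.base = Set.range j'.base
    rw [hr]))
  refine nonempty_locCoh_of_bc gS j j' hfac F b fun q _ => ?_
  haveI := isIso_bcQ_chart C j c ((EtCoh.pull j).obj F) q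
  exact ⟨asIso (EtBC.bcQ j gS j' e c.w q ((EtCoh.pull j).obj F))⟩

end EtDepthLocLib
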